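import Mathlib

/-!
Candidate element orders for the three same-order types (found by computation).
-/

set_option autoImplicit false

namespace Cfsg.Agent.Lie.SameOrderType

/-- Candidates. -/
def candFour : List (ℕ × List ℕ × List ℕ) := [
  (3, [1], [8]),
  (4, [1, 2], [8]),
  (6, [1, 2, 3], [8]),
  (8, [1, 2, 4], [8]),
  (12, [1, 2, 3, 4, 6], [8]),
  (16, [1, 2, 4, 8], [8]),
  (24, [1, 2, 3, 4, 6, 8, 12], [8])]

/-- Candidates. -/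
def candFive : List (ℕ × List ℕ × List ℕ) := [
  (3, [1], [20, 24]),
  (4, [1, 2], [20, 24]),
  (5, [1], [20, 24]),
  (6, [1, 2, 3], [20, 24]),
  (8, [1, 2, 4], [20, 24]),
  (9, [1, 3], [24]),
  (10, [1, 2, 5], [20, 24]),
  (12, [1, 2, 3, 4, 6], [20, 24]),
  (15, [1, 3, 5], [24]),
  (16, [1, 2, 4, 8], [24]),
  (18, [1, 2, 3, 6, 9], [24]),
  (20, [1, 2, 4, 5, 10], [24]),
  (24, [1, 2, 3, 4, 6, 8, 12], [24]),
  (25, [1, 5], [20]),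
  (30, [1, 2, 3, 5, 6, 10, 15], [24]),
  (36, [1, 2, 3, 4, 6, 9, 12, 18], [24]),
  (45, [1, 3, 5, 9, 15], [24]),
  (50, [1, 2, 5, 10, 25], [20]),
  (72, [1, 2, 3, 4, 6, 8, 9, 12, 18, 24, 36], [24]),
  (90, [1, 2, 3, 5, 6, 9, 10, 15, 18, 30, 45], [24])]

/-- Candidates. -/
def candSix : List (ℕ × List ℕ × List ℕ) := [
  (3, [1], [80, 90, 144]),
  (4, [1, 2], [80, 90, 144]),
  (5, [1], [80, 144]),
  (6, [1, 2, 3], [80, 90, 144]),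
  (7, [1], [90, 144]),
  (8, [1, 2, 4], [80, 144]),
  (9, [1, 3], [90, 144]),
  (10, [1, 2, 5], [80, 144]),
  (12, [1, 2, 3, 4, 6], [80, 144]),
  (14, [1, 2, 7], [90, 144]),
  (15, [1, 3, 5], [80, 144]),
  (16, [1, 2, 4, 8], [80, 144]),
  (18, [1, 2, 3, 6, 9], [90, 144]),
  (20, [1, 2, 4, 5, 10], [80, 144]),
  (21, [1, 3, 7], [144]),
  (24, [1, 2, 3, 4, 6, 8, 12], [80, 144]),
  (25, [1, 5], [80]),
  (27, [1, 3, 9], [90, 144]),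
  (28, [1, 2, 4, 7, 14], [144]),
  (30, [1, 2, 3, 5, 6, 10, 15], [80, 144]),
  (32, [1, 2, 4, 8, 16], [80, 144]),
  (35, [1, 5, 7], [144]),
  (36, [1, 2, 3, 4, 6, 9, 12, 18], [144]),
  (40, [1, 2, 4, 5, 8, 10, 20], [80, 144]),
  (42, [1, 2, 3, 6, 7, 14, 21], [144]),
  (45, [1, 3, 5, 9, 15], [144]),
  (48, [1, 2, 3, 4, 6, 8, 12, 16, 24], [80, 144]),
  (50, [1, 2, 5, 10, 25], [80]),
  (54, [1, 2, 3, 6, 9, 18, 27], [90, 144]),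
  (56, [1, 2, 4, 7, 8, 14, 28], [144]),
  (60, [1, 2, 3, 4, 5, 6, 10, 12, 15, 20, 30], [80, 144]),
  (63, [1, 3, 7, 9, 21], [144]),
  (70, [1, 2, 5, 7, 10, 14, 35], [144]),
  (72, [1, 2, 3, 4, 6, 8, 9, 12, 18, 24, 36], [144]),
  (75, [1, 3, 5, 15, 25], [80]),
  (84, [1, 2, 3, 4, 6, 7, 12, 14, 21, 28, 42], [144]),
  (90, [1, 2, 3, 5, 6, 9, 10, 15, 18, 30, 45], [144]),
  (100, [1, 2, 4, 5, 10, 20, 25, 50], [80]),
  (105, [1, 3, 5, 7, 15, 21, 35], [144]),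
  (108, [1, 2, 3, 4, 6, 9, 12, 18, 27, 36, 54], [144]),
  (112, [1, 2, 4, 7, 8, 14, 16, 28, 56], [144]),
  (126, [1, 2, 3, 6, 7, 9, 14, 18, 21, 42, 63], [144]),
  (135, [1, 3, 5, 9, 15, 27, 45], [144]),
  (140, [1, 2, 4, 5, 7, 10, 14, 20, 28, 35, 70], [144]),
  (144, [1, 2, 3, 4, 6, 8, 9, 12, 16, 18, 24, 36, 48, 72], [144]),
  (150, [1, 2, 3, 5, 6, 10, 15, 25, 30, 50, 75], [80]),
  (168, [1, 2, 3, 4, 6, 7, 8, 12, 14, 21, 24, 28, 42, 56, 84], [144]),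
  (180, [1, 2, 3, 4, 5, 6, 9, 10, 12, 15, 18, 20, 30, 36, 45, 60, 90], [144]),
  (200, [1, 2, 4, 5, 8, 10, 20, 25, 40, 50, 100], [80]),
  (210, [1, 2, 3, 5, 6, 7, 10, 14, 15, 21, 30, 35, 42, 70, 105], [144]),
  (216, [1, 2, 3, 4, 6, 8, 9, 12, 18, 24, 27, 36, 54, 72, 108], [144]),
  (252, [1, 2, 3, 4, 6, 7, 9, 12, 14, 18, 21, 28, 36, 42, 63, 84, 126], [144]),
  (270, [1, 2, 3, 5, 6, 9, 10, 15, 18, 27, 30, 45, 54, 90, 135], [144]),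
  (300, [1, 2, 3, 4, 5, 6, 10, 12, 15, 20, 25, 30, 50, 60, 75, 100, 150], [80]),
  (315, [1, 3, 5, 7, 9, 15, 21, 35, 45, 63, 105], [144]),
  (432, [1, 2, 3, 4, 6, 8, 9, 12, 16, 18, 24, 27, 36, 48, 54, 72, 108, 144, 216], [144]),
  (504, [1, 2, 3, 4, 6, 7, 8, 9, 12, 14, 18, 21, 24, 28, 36, 42, 56, 63, 72, 84, 126, 168, 252], [144]),
  (540, [1, 2, 3, 4, 5, 6, 9, 10, 12, 15, 18, 20, 27, 30, 36, 45, 54, 60, 90, 108, 135, 180, 270], [144]),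
  (630, [1, 2, 3, 5, 6, 7, 9, 10, 14, 15, 18, 21, 30, 35, 42, 45, 63, 70, 90, 105, 126, 210, 315], [144])]

end Cfsg.Agent.Lie.SameOrderType
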