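import Cfsg.Agent.Lib.Lie.SameOrderType.Search
import Cfsg.Agent.Lib.Lie.OrderSixty
import Cfsg.Agent.Lib.Small.Order360

/-!
The alternating groups of degree four, five and six are determined by their sets of same-order-element numbers.
-/

set_option autoImplicit false
set_option linter.style.haveILetI false
set_option maxRecDepth 100000
set_option maxHeartbeats 2000000

namespace Cfsg.Agent.Lie.SameOrderType

/-- The set of counts of elements of equal order. -/
def typeSet (G : Type*) [Group G] : Set ℕ := (fun m => cnt G m) '' Set.range (orderOf : G → ℕ)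

/-- Checks on the candidates. -/
def okCand (L : ℕ) (vals : List ℕ) (cand : List (ℕ × List ℕ × List ℕ)) : Bool :=
  (cand.all fun e => decide (3 ≤ e.1 ∧ e.2.1.toFinset = e.1.properDivisors ∧ e.2.1.Nodup) &&
    vals.all fun v => v % e.1.totient != 0 || e.2.2.contains v) &&
  decide (cand.Pairwise fun x y => x.1 < y.1) &&
  (List.range 631).all fun m => decide (m < 3) || L % m != 0 || !(vals.any fun v => v % m.totient == 0) ||
    cand.any fun e => e.1 == m

/-- Checks on the exponent. -/
def okExp (L : ℕ) (vals : List ℕ) : Bool :=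
  (List.range 146).all fun p => !(decide (2 ≤ p) && (List.range p).all fun d => decide (d < 2) || p % d != 0) ||
    (p != 2 && !(vals.any fun v => v % (p - 1) == 0 && (v + 1) % p == 0)) ||
    (List.range 9).all fun i => !(vals.any fun v => v % (p ^ i * (p - 1)) == 0) || L % p ^ (i + 1) == 0

section Setup

variable {G : Type*} [Group G] [Finite G]

theorem totient_bound {m : ℕ} (hm : m ∣ 151200) : m * 48 ≤ m.totient * 210 := by
  have hsub : m.primeFactors ⊆ ({2, 3, 5, 7} : Finset ℕ) := by
    intro p hp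
    obtain ⟨hp', hpm, -⟩ := Nat.mem_primeFactors.1 hp
    have h := hpm.trans hm
    rw [show (151200 : ℕ) = 2 ^ 5 * 3 ^ 3 * 5 ^ 2 * 7 by norm_num] at h
    simp only [Finset.mem_insert, Finset.mem_singleton]
    rcases hp'.dvd_mul.1 h with h | h
    · rcases hp'.dvd_mul.1 h with h | h
      · rcases hp'.dvd_mul.1 h with h | h
        · exact Or.inl ((Nat.prime_dvd_prime_iff_eq hp' Nat.prime_two).1 (hp'.dvd_of_dvd_pow h))
        · exact Or.inr (Or.inl ((Nat.prime_dvd_prime_iff_eq hp' Nat.prime_three).1 (hp'.dvd_of_dvd_pow h)))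
      · exact Or.inr (Or.inr (Or.inl ((Nat.prime_dvd_prime_iff_eq hp' Nat.prime_five).1 (hp'.dvd_of_dvd_pow h))))
    · exact Or.inr (Or.inr (Or.inr ((Nat.prime_dvd_prime_iff_eq hp' (by norm_num)).1 h)))
  have hcheck : ∀ S ∈ ({2, 3, 5, 7} : Finset ℕ).powerset, (∏ p ∈ S, p) * 48 ≤ 210 * ∏ p ∈ S, (p - 1) := by decide
  have h1 := hcheck _ (Finset.mem_powerset.2 hsub)
  have h2 := Nat.totient_mul_prod_primeFactors m
  have hpos : 0 < ∏ p ∈ m.primeFactors, (p - 1) := Finset.prod_pos fun p hp => by
    have := (Nat.prime_of_mem_primeFactors hp).two_le; omega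
  refine Nat.le_of_mul_le_mul_right ?_ hpos
  calc m * 48 * ∏ p ∈ m.primeFactors, (p - 1) = (m * ∏ p ∈ m.primeFactors, (p - 1)) * 48 := by ring
    _ = m.totient * ((∏ p ∈ m.primeFactors, p) * 48) := by rw [← h2]; ring
    _ ≤ m.totient * (210 * ∏ p ∈ m.primeFactors, (p - 1)) := Nat.mul_le_mul_left _ h1
    _ = _ := by ring

/-- The counts are those of the target. -/
theorem cnt_eq {n2 L : ℕ} {vals : List ℕ} {cand : List (ℕ × List ℕ × List ℕ)} {tgt : List (ℕ × ℕ)}
    (h2 : n2 % 2 = 1) (hn1 : n2 ≠ 1) (hv : ∀ v ∈ vals, v ≠ 0 ∧ v ≤ 144 ∧ v % 2 = 0)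
    (hL : L ∣ 151200) (hc : okCand L vals cand = true) (hx : okExp L vals = true)
    (hd : dfs (1 :: n2 :: vals) tgt cand.length cand [(2, n2), (1, 1)] = true)
    (hG : typeSet G = {x | x ∈ 1 :: n2 :: vals}) : ∀ m, cnt G m = lk tgt m := by
  have hmem : ∀ m, 0 < cnt G m → cnt G m ∈ 1 :: n2 :: vals := fun m hm =>
    (hG ▸ Set.mem_image_of_mem _ (cnt_pos_iff.1 hm) : cnt G m ∈ {x | x ∈ 1 :: n2 :: vals})
  have hsur : ∀ s ∈ 1 :: n2 :: vals, ∃ m, 0 < cnt G m ∧ cnt G m = s := by
    intro s hs
    obtain ⟨m, hm, rfl⟩ := (hG.symm ▸ hs : s ∈ typeSet G)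
    exact ⟨m, cnt_pos_iff.2 hm, rfl⟩
  have heven : ∀ m, 3 ≤ m → 0 < cnt G m → cnt G m ∈ vals := by
    intro m h3 hm
    have he : 2 ∣ cnt G m := (Nat.totient_even (by omega)).two_dvd.trans (totient_dvd_cnt m hm)
    have := hmem m hm
    simp only [List.mem_cons] at this
    rcases this with e | e | e
    · omega
    · omega
    · exact e
  obtain ⟨m₂, hm₂, hm₂e⟩ := hsur n2 (by simp)
  have hn2 : cnt G 2 = n2 := by
    rcases lt_or_ge m₂ 3 with h | h
    · interval_cases m₂
      · obtain ⟨g, hg⟩ := cnt_pos_iff.1 hm₂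
        exact absurd hg (orderOf_pos g).ne'
      · rw [cnt_one] at hm₂e; omega
      · exact hm₂e
    · have := hv _ (hm₂e ▸ heven m₂ h hm₂); omega
  simp only [okCand, Bool.and_eq_true, List.all_eq_true, decide_eq_true_eq, Bool.or_eq_true, bne_iff_ne,
    List.contains_iff_mem, List.mem_range, Bool.not_eq_true', List.any_eq_true, beq_iff_eq] at hc
  obtain ⟨⟨hent, hsort⟩, hcov⟩ := hc
  have hopt : ∀ e ∈ cand, 0 < cnt G e.1 → cnt G e.1 ∈ e.2.2 := by
    intro e he hp
    rcases (hent e he).2 _ (heven _ (hent e he).1.1 hp) with h | h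
    · exact absurd (Nat.mod_eq_zero_of_dvd (totient_dvd_cnt _ hp)) h
    · exact h
  have hexp : ∀ m, 3 ≤ m → 0 < cnt G m → m ∣ L := by
    intro m hm3 hm
    rw [Nat.dvd_iff_prime_pow_dvd_dvd]
    intro p k hp hpk
    rcases k with _ | i
    · simp
    have hq : 0 < cnt G (p ^ (i + 1)) := cnt_pos_of_dvd hm hpk
    have hp' : 0 < cnt G p := cnt_pos_of_dvd hq (dvd_pow_self p (by omega))
    obtain ⟨v, hv', hdv⟩ : ∃ v ∈ vals, p ^ i * (p - 1) ∣ v := by
      by_cases hsmall : p ^ (i + 1) < 3
      · have : p = 2 ∧ i = 0 := by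
          have := hp.two_le
          rcases i with _ | i
          · simp at hsmall; omega
          · have : p ^ 2 ≤ p ^ (i + 1 + 1) := Nat.pow_le_pow_right (by omega) (by omega)
            have : 4 ≤ p ^ 2 := by nlinarith
            omega
        obtain ⟨rfl, rfl⟩ := this
        exact ⟨_, heven m hm3 hm, one_dvd _⟩
      · refine ⟨_, heven _ (by omega) hq, ?_⟩
        have := totient_dvd_cnt _ hq
        rwa [Nat.totient_prime_pow_succ hp] at this
    obtain ⟨hv0, hv144, -⟩ := hv v hv'
    have hvle := Nat.le_of_dvd (by omega) hdv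
    have hp1 : p - 1 ≤ v := (Nat.le_mul_of_pos_left _ (Nat.pow_pos hp.pos)).trans hvle
    have hi : i < 9 := by
      by_contra hi
      have h512 : 2 ^ 9 ≤ p ^ i := (Nat.pow_le_pow_left hp.two_le 9).trans (Nat.pow_le_pow_right hp.pos (by omega))
      have : p ^ i ≤ v := (Nat.le_mul_of_pos_right _ (by have := hp.two_le; omega)).trans hvle
      omega
    have hx' := hx
    simp only [okExp, List.all_eq_true, List.mem_range, Bool.or_eq_true, Bool.not_eq_true'] at hx'
    rcases hx' p (by omega) with (hnp | hno) | hok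
    · exfalso
      rw [Bool.and_eq_false_iff, List.all_eq_false] at hnp
      rcases hnp with h | ⟨d, hd1, hd2⟩
      · simp only [decide_eq_false_iff_not] at h
        exact h hp.two_le
      · simp only [Bool.or_eq_true, decide_eq_true_eq, bne_iff_ne, not_or, not_lt, not_not, List.mem_range] at hd1 hd2
        rcases hp.eq_one_or_self_of_dvd d (Nat.dvd_of_mod_eq_zero hd2.2) with h | h <;> omega
    · exfalso
      simp only [Bool.and_eq_true, bne_iff_ne, Bool.not_eq_true', List.any_eq_false, beq_iff_eq, not_and] at hno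
      have h3 : 3 ≤ p := by have := hp.two_le; omega
      have hd' := totient_dvd_cnt _ hp'
      rw [Nat.totient_prime hp] at hd'
      refine hno.2 _ (heven p h3 hp') (Nat.mod_eq_zero_of_dvd hd') (Nat.mod_eq_zero_of_dvd ?_)
      obtain ⟨g, hg⟩ := cnt_pos_iff.1 hp'
      have := dvd_sum_divisors (G := G) (k := p) (hg ▸ orderOf_dvd_natCard g)
      rw [hp.sum_divisors, cnt_one] at this
      first | exact this | (rw [add_comm]; exact this)
    · rcases hok i hi with h | h
      · exfalso
        rw [List.any_eq_false] at h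
        exact h v hv' (by simpa using Nat.mod_eq_zero_of_dvd hdv)
      · exact Nat.dvd_of_mod_eq_zero (by simpa using h)
  refine dfs_sound hsur cand.length cand [(2, n2), (1, 1)] ?_ hd
  refine ⟨?_, by simp, fun m hm => ?_, hsort, fun x hx => ?_, fun x hx => ?_⟩
  · intro p hp
    simp only [List.mem_cons, List.not_mem_nil, or_false] at hp
    rcases hp with rfl | rfl
    · exact ⟨hn2.symm, by simp; omega⟩
    · exact ⟨cnt_one.symm, by simp⟩
  · rcases lt_or_ge m 3 with h | h
    · left
      interval_cases m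
      · obtain ⟨g, hg⟩ := cnt_pos_iff.1 hm
        exact absurd hg (orderOf_pos g).ne'
      · simp
      · simp
    · right
      have hmL := hexp m h hm
      have hvm := heven m h hm
      have hbd := totient_bound (hmL.trans hL)
      have htle : m.totient ≤ 144 :=
        (Nat.le_of_dvd hm (totient_dvd_cnt m hm)).trans (hv _ hvm).2.1
      rcases hcov m (by omega) with ((h' | h') | h') | ⟨e, he, hem⟩
      · omega
      · exact absurd (Nat.mod_eq_zero_of_dvd hmL) h'
      · rw [List.any_eq_false] at h'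
        exact absurd (by simpa using Nat.mod_eq_zero_of_dvd (totient_dvd_cnt m hm)) (h' _ hvm)
      · exact List.mem_map.2 ⟨e, he, hem⟩
  · have := (hent x hx).1.1
    simp only [List.map_cons, List.map_nil, List.mem_cons, List.not_mem_nil, or_false]
    omega
  · exact ⟨by have := (hent x hx).1.1; omega, (hent x hx).1.2.1, (hent x hx).1.2.2, hopt x hx⟩

end Setup

section Identify

variable {G : Type*} [Group G] [Finite G]

/-- The target lists. -/
def tgtFour : List (ℕ × ℕ) := [(3, 8), (2, 3), (1, 1)]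
/-- The target for degree five. -/
def tgtFive : List (ℕ × ℕ) := [(5, 24), (3, 20), (2, 15), (1, 1)]
/-- The target for degree six. -/
def tgtSix : List (ℕ × ℕ) := [(5, 144), (4, 90), (3, 80), (2, 45), (1, 1)]

theorem cnt_four (h : typeSet G = {x | x ∈ [1, 3, 8]}) : ∀ m, cnt G m = lk tgtFour m :=
  cnt_eq (n2 := 3) (vals := [8]) (L := 48) (by decide) (by decide) (by decide) (by norm_num)
    (cand := candFour) (by decide +kernel) (by decide +kernel) (by decide +kernel) h

theorem cnt_five (h : typeSet G = {x | x ∈ [1, 15, 20, 24]}) : ∀ m, cnt G m = lk tgtFive m :=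
  cnt_eq (n2 := 15) (vals := [20, 24]) (L := 3600) (by decide) (by decide) (by decide) (by norm_num)
    (cand := candFive) (by decide +kernel) (by decide +kernel) (by decide +kernel) h

theorem cnt_six (h : typeSet G = {x | x ∈ [1, 45, 80, 90, 144]}) : ∀ m, cnt G m = lk tgtSix m :=
  cnt_eq (n2 := 45) (vals := [80, 90, 144]) (L := 151200) (by decide) (by decide) (by decide) (by norm_num)
    (cand := candSix) (by decide +kernel) (by decide +kernel) (by decide +kernel) h

theorem card_eq_sum {tgt : List (ℕ × ℕ)} (h : ∀ m, cnt G m = lk tgt m) :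
    Nat.card G = ∑ m ∈ (tgt.map Prod.fst).toFinset, lk tgt m := by
  classical
  haveI := Fintype.ofFinite G
  rw [Nat.card_eq_fintype_card, ← Finset.card_univ,
    Finset.card_eq_sum_card_fiberwise (t := (tgt.map Prod.fst).toFinset) (f := orderOf) (fun g _ => ?_)]
  · exact Finset.sum_congr rfl fun d _ => by rw [← h d, cnt, Nat.card_eq_fintype_card, Fintype.card_subtype]
  · by_contra hne
    have hpos : 0 < cnt G (orderOf g) := cnt_pos_iff.2 ⟨g, rfl⟩
    rw [h, lk, List.filter_eq_nil_iff.2] at hpos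
    · simp at hpos
    · intro p hp hpg
      exact hne (List.mem_toFinset.2 (List.mem_map.2 ⟨p, hp, by simpa using hpg⟩))

theorem cnt_le_card_normal (N : Subgroup G) [N.Normal] (S : Finset ℕ)
    (hS : ∀ p ∈ S, p.Prime ∧ ¬ p ∣ N.index) : ∑ p ∈ S, cnt G p + 1 ≤ Nat.card N := by
  classical
  haveI := Fintype.ofFinite G
  have hmem : ∀ g : G, orderOf g ∈ insert 1 S → g ∈ N := fun g hg => by
    rcases Finset.mem_insert.1 hg with e | e
    · rw [orderOf_eq_one_iff.1 e]; exact one_mem N
    obtain ⟨hp, hi⟩ := hS _ e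
    rw [← QuotientGroup.eq_one_iff, ← orderOf_eq_one_iff]
    refine ((Nat.dvd_prime hp).1 (orderOf_map_dvd (QuotientGroup.mk' N) g)).resolve_right fun e => hi ?_
    rw [Subgroup.index_eq_card, ← e]
    exact orderOf_dvd_natCard _
  calc ∑ p ∈ S, cnt G p + 1 = ∑ p ∈ insert 1 S, cnt G p := by
        rw [Finset.sum_insert (fun h1 => Nat.not_prime_one (hS 1 h1).1), cnt_one, add_comm]
    _ = (Finset.univ.filter fun g : G => orderOf g ∈ insert 1 S).card := by
        rw [Finset.card_eq_sum_card_fiberwise (s := Finset.univ.filter fun g : G => orderOf g ∈ insert 1 S)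
          (t := insert 1 S) (f := orderOf) (fun g hg => (Finset.mem_filter.1 hg).2)]
        refine Finset.sum_congr rfl fun d hd => ?_
        rw [cnt, Nat.card_eq_fintype_card, Fintype.card_subtype]
        congr 1
        ext g
        simp only [Finset.mem_filter, Finset.mem_univ, true_and]
        exact ⟨fun e => ⟨e ▸ hd, e⟩, And.right⟩
    _ ≤ (Finset.univ.filter fun g : G => g ∈ N).card :=
        Finset.card_le_card fun g hg => Finset.mem_filter.2 ⟨Finset.mem_univ _, hmem g (Finset.mem_filter.1 hg).2⟩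
    _ = Nat.card N := by rw [Nat.card_eq_fintype_card]; exact (Fintype.card_subtype _).symm

theorem hidx_aux (N : Subgroup G) [N.Normal] {k n : ℕ} (hk : Nat.card N = k) (hn : Nat.card G = n) (hn0 : 0 < n)
    (S : Finset ℕ) (hp : ∀ p ∈ S, p.Prime) (hS : ∀ p ∈ S, (n / k) % p ≠ 0) : ∑ p ∈ S, cnt G p + 1 ≤ k := by
  refine hk ▸ cnt_le_card_normal N S fun p h => ⟨hp p h, fun hd => hS p h ?_⟩
  have hmul : k * N.index = n := by rw [← hk, N.card_mul_index, hn]
  have hk0 : 0 < k := by rcases Nat.eq_zero_or_pos k with h0 | h0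
                         · rw [h0, zero_mul] at hmul; omega
                         · exact h0
  rw [show n / k = N.index by rw [← hmul, Nat.mul_div_cancel_left _ hk0]]
  exact Nat.mod_eq_zero_of_dvd hd

theorem exists_commuting (N : Subgroup G) [N.Normal] {g : G} (hg : orderOf g = 5) (hk : Nat.card N % 5 ≠ 1) :
    ∃ x ∈ N, x ≠ 1 ∧ Commute x g := by
  haveI := Fact.mk Nat.prime_five
  have hP : IsPGroup 5 (Subgroup.zpowers g) :=
    IsPGroup.of_card (n := 1) (by rw [Nat.card_zpowers, hg, pow_one])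
  letI : MulAction (Subgroup.zpowers g) N :=
    MulAction.compHom N ((MulAut.conjNormal (H := N)).comp (Subgroup.zpowers g).subtype)
  have hmod := hP.card_modEq_card_fixedPoints N
  by_contra hne
  push Not at hne
  have hfix : MulAction.fixedPoints (Subgroup.zpowers g) N = {1} := by
    ext x
    simp only [MulAction.mem_fixedPoints, Set.mem_singleton_iff]
    constructor
    · intro hx
      by_contra hx1
      refine hne x x.2 (fun e => hx1 (Subtype.ext e)) ?_
      have h2 := congrArg Subtype.val (hx ⟨g, Subgroup.mem_zpowers g⟩)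
      have h3 : g * (x : G) * g⁻¹ = x := by
        simpa [MulAction.compHom_smul_def] using h2
      exact (mul_inv_eq_iff_eq_mul.1 h3).symm
    · rintro rfl u
      exact smul_one_conj u
  rw [hfix, Nat.card_eq_fintype_card (α := ({1} : Set N)), Set.card_singleton] at hmod
  exact hk hmod
where
  smul_one_conj {N : Subgroup G} [N.Normal] {g : G} (u : Subgroup.zpowers g) :
      ((MulAut.conjNormal (H := N)).comp (Subgroup.zpowers g).subtype u) (1 : N) = 1 := map_one _

theorem no_commuting (N : Subgroup G) [N.Normal] {g : G} (hg : orderOf g = 5) {k : ℕ} (hk : Nat.card N = k)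
    (h5 : ¬ 5 ∣ k) (hno : ∀ q, q.Prime → q ∣ k → cnt G (q * 5) = 0) : k % 5 = 1 := by
  by_contra hmod
  obtain ⟨x, hx, hx1, hc⟩ := exists_commuting N hg (hk ▸ hmod)
  obtain ⟨q, hq, hqd⟩ := Nat.exists_prime_and_dvd (n := orderOf x) (by simpa [orderOf_eq_one_iff] using hx1)
  have hqk : q ∣ k := hqd.trans (hk ▸ by
    have := orderOf_dvd_natCard (⟨x, hx⟩ : N)
    rwa [Subgroup.orderOf_mk] at this)
  have hcop : (orderOf (x ^ (orderOf x / q))).Coprime (orderOf g) := by
    rw [orderOf_pow_orderOf_div (orderOf_pos x).ne' hqd, hg, Nat.coprime_primes hq Nat.prime_five]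
    rintro rfl
    exact h5 hqk
  have h1 := Commute.orderOf_mul_eq_mul_orderOf_of_coprime (hc.pow_left (orderOf x / q)) hcop
  rw [orderOf_pow_orderOf_div (orderOf_pos x).ne' hqd, hg] at h1
  have := cnt_pos_iff (G := G).2 ⟨_, h1⟩
  rw [hno q hq hqk] at this
  omega

theorem simple_of_five (h : ∀ m, cnt G m = lk tgtFive m) : Nat.card G = 60 ∧ IsSimpleGroup G := by
  have hcard : Nat.card G = 60 := by rw [card_eq_sum h]; decide
  haveI : Nontrivial G := Finite.one_lt_card_iff_nontrivial.1 (by omega)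
  have e5 : lk tgtFive 5 = 24 := rfl
  obtain ⟨g, hg⟩ := cnt_pos_iff.1 (show 0 < cnt G 5 by rw [h, e5]; norm_num)
  have hno : ∀ (N : Subgroup G) [N.Normal], ¬ 5 ∣ Nat.card N → Nat.card N % 5 = 1 := by
    intro N _ h5
    refine no_commuting N hg rfl h5 fun q hq hqk => ?_
    have hqG : q ∣ 2 ^ 2 * 3 * 5 := by
      rw [show (2 : ℕ) ^ 2 * 3 * 5 = 60 by norm_num, ← hcard]
      exact hqk.trans N.card_subgroup_dvd_card
    rw [h]
    rcases hq.dvd_mul.1 hqG with h' | h'
    · rcases hq.dvd_mul.1 h' with h' | h'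
      · rw [(Nat.prime_dvd_prime_iff_eq hq Nat.prime_two).1 (hq.dvd_of_dvd_pow h')]; rfl
      · rw [(Nat.prime_dvd_prime_iff_eq hq Nat.prime_three).1 h']; rfl
    · exact absurd ((Nat.prime_dvd_prime_iff_eq hq Nat.prime_five).1 h' ▸ hqk) h5
  refine ⟨hcard, ⟨fun N hN => ?_⟩⟩
  by_contra hne
  push Not at hne
  obtain ⟨k, hk⟩ : ∃ k, Nat.card N = k := ⟨_, rfl⟩
  have hk1 : k ≠ 1 := fun e => hne.1 (Subgroup.eq_bot_of_card_eq N (hk.trans e))
  have hk2 : k ≠ 60 := fun e => hne.2 (Subgroup.eq_top_of_card_eq N (by rw [hk, e, hcard]))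
  have hdvd : k ∈ (60 : ℕ).divisors :=
    Nat.mem_divisors.2 ⟨hk ▸ hcard ▸ N.card_subgroup_dvd_card, by norm_num⟩
  have hS : ∀ S ∈ ({3, 5} : Finset ℕ).powerset, (∀ p ∈ S, (60 / k) % p ≠ 0) → ∑ p ∈ S, lk tgtFive p + 1 ≤ k := by
    intro S hS hp
    have := hidx_aux N hk hcard (by norm_num) S (fun p hp => by
      have := Finset.mem_powerset.1 hS hp
      simp only [Finset.mem_insert, Finset.mem_singleton] at this
      rcases this with rfl | rfl <;> norm_num) hp
    simpa only [h] using this
  have key : ∀ k ∈ (60 : ℕ).divisors, (k % 5 ≠ 0 → k % 5 = 1) →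
      (∀ S ∈ ({3, 5} : Finset ℕ).powerset, (∀ p ∈ S, (60 / k) % p ≠ 0) → ∑ p ∈ S, lk tgtFive p + 1 ≤ k) →
      k = 1 ∨ k = 60 := by decide +kernel
  rcases key k hdvd (fun h0 => hk ▸ hno N (hk.symm ▸ fun hd => h0 (Nat.mod_eq_zero_of_dvd hd))) hS with e | e
  · exact hk1 e
  · exact hk2 e

theorem simple_of_six (h : ∀ m, cnt G m = lk tgtSix m) : Nat.card G = 360 ∧ IsSimpleGroup G := by
  have hcard : Nat.card G = 360 := by rw [card_eq_sum h]; decide
  haveI : Nontrivial G := Finite.one_lt_card_iff_nontrivial.1 (by omega)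
  have e5 : lk tgtSix 5 = 144 := rfl
  have e3 : lk tgtSix 3 = 80 := rfl
  obtain ⟨g, hg⟩ := cnt_pos_iff.1 (show 0 < cnt G 5 by rw [h, e5]; norm_num)
  have hno : ∀ (N : Subgroup G) [N.Normal], ¬ 5 ∣ Nat.card N → Nat.card N % 5 = 1 := by
    intro N _ h5
    refine no_commuting N hg rfl h5 fun q hq hqk => ?_
    have hqG : q ∣ 2 ^ 3 * 3 ^ 2 * 5 := by
      rw [show (2 : ℕ) ^ 3 * 3 ^ 2 * 5 = 360 by norm_num, ← hcard]
      exact hqk.trans N.card_subgroup_dvd_card
    rw [h]
    rcases hq.dvd_mul.1 hqG with h' | h'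
    · rcases hq.dvd_mul.1 h' with h' | h'
      · rw [(Nat.prime_dvd_prime_iff_eq hq Nat.prime_two).1 (hq.dvd_of_dvd_pow h')]; rfl
      · rw [(Nat.prime_dvd_prime_iff_eq hq Nat.prime_three).1 (hq.dvd_of_dvd_pow h')]; rfl
    · exact absurd ((Nat.prime_dvd_prime_iff_eq hq Nat.prime_five).1 h' ▸ hqk) h5
  refine ⟨hcard, ⟨fun N hN => ?_⟩⟩
  by_contra hne
  push Not at hne
  obtain ⟨k, hk⟩ : ∃ k, Nat.card N = k := ⟨_, rfl⟩
  have hmul : k * N.index = 360 := by rw [← hk, N.card_mul_index, hcard]
  have hk1 : k ≠ 1 := fun e => hne.1 (Subgroup.eq_bot_of_card_eq N (hk.trans e))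
  have hk2 : k ≠ 360 := fun e => hne.2 (Subgroup.eq_top_of_card_eq N (by rw [hk, e, hcard]))
  have hle : k ≤ 360 := Nat.le_of_dvd (by omega) ⟨_, hmul.symm⟩
  have hdvd : k ∈ (360 : ℕ).divisors := Nat.mem_divisors.2 ⟨⟨_, hmul.symm⟩, by norm_num⟩
  have hS : ∀ S ∈ ({3, 5} : Finset ℕ).powerset, (∀ p ∈ S, (360 / k) % p ≠ 0) → ∑ p ∈ S, lk tgtSix p + 1 ≤ k := by
    intro S hS hp
    have := hidx_aux N hk hcard (by norm_num) S (fun p hp => by
      have := Finset.mem_powerset.1 hS hp
      simp only [Finset.mem_insert, Finset.mem_singleton] at this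
      rcases this with rfl | rfl <;> norm_num) hp
    simpa only [h] using this
  have key : ∀ k ∈ (360 : ℕ).divisors, (k % 5 ≠ 0 → k % 5 = 1) →
      (∀ S ∈ ({3, 5} : Finset ℕ).powerset, (∀ p ∈ S, (360 / k) % p ≠ 0) → ∑ p ∈ S, lk tgtSix p + 1 ≤ k) →
      k = 1 ∨ k = 360 ∨ k = 6 := by decide +kernel
  rcases key k hdvd (fun h0 => hk ▸ hno N (hk.symm ▸ fun hd => h0 (Nat.mod_eq_zero_of_dvd hd))) hS with
    e | e | e
  · exact hk1 e
  · exact hk2 e
  · -- order six: its subgroup of order three is normal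
    haveI := Fact.mk Nat.prime_three
    obtain ⟨P⟩ : Nonempty (Sylow 3 N) := inferInstance
    have hPc : Nat.card (P : Subgroup N) = 3 := by
      rw [P.card_eq_multiplicity, hk, e, show (6 : ℕ) = 3 ^ 1 * 2 by norm_num, Nat.factorization_mul (by norm_num)
        (by norm_num), Finsupp.add_apply, Nat.factorization_pow_self Nat.prime_three,
        Nat.factorization_eq_zero_of_not_dvd (by norm_num : ¬ 3 ∣ 2)]
      rfl
    haveI : (P : Subgroup N).Normal := Subgroup.normal_of_index_eq_two (by
      have := (P : Subgroup N).card_mul_index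
      rw [hPc, hk, e] at this
      omega)
    haveI := Sylow.characteristic_of_normal P inferInstance
    haveI : ((P : Subgroup N).map N.subtype).Normal := ConjAct.normal_of_characteristic_of_normal
    have hc3 : Nat.card ((P : Subgroup N).map N.subtype) = 3 := by
      rw [Nat.card_congr ((P : Subgroup N).equivMapOfInjective N.subtype N.subtype_injective).symm.toEquiv, hPc]
    have := hno ((P : Subgroup N).map N.subtype) (by rw [hc3]; norm_num)
    rw [hc3] at this
    omega

theorem iso_four (h : ∀ m, cnt G m = lk tgtFour m) : Nonempty (G ≃* alternatingGroup (Fin 4)) := by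
  classical
  haveI := Fact.mk Nat.prime_three
  have hcard : Nat.card G = 12 := by rw [card_eq_sum h]; decide
  have hfac : (12 : ℕ).factorization 3 = 1 := by
    rw [show (12 : ℕ) = 3 ^ 1 * 4 by norm_num, Nat.factorization_mul (by norm_num) (by norm_num),
      Finsupp.add_apply, Nat.factorization_pow_self Nat.prime_three,
      Nat.factorization_eq_zero_of_not_dvd (by norm_num : ¬ 3 ∣ 4)]
  obtain ⟨P⟩ : Nonempty (Sylow 3 G) := inferInstance
  have hPc : ∀ Q : Sylow 3 G, Nat.card (Q : Subgroup G) = 3 := fun Q => by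
    rw [Q.card_eq_multiplicity, hcard, hfac]; rfl
  have hn : Nat.card (Sylow 3 G) = 4 := by
    have h1 := P.card_dvd_index
    have h2 := (P : Subgroup G).card_mul_index
    rw [hPc, hcard] at h2
    rw [show (P : Subgroup G).index = 4 by omega] at h1
    have h3 := card_sylow_modEq_one 3 G
    have h4 := Nat.le_of_dvd (by norm_num) h1
    by_contra hne
    have h5 : Nat.card (Sylow 3 G) = 1 := by
      unfold Nat.ModEq at h3
      interval_cases hx : Nat.card (Sylow 3 G) <;> simp_all
    haveI := (Nat.card_eq_one_iff_unique.1 h5).1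
    haveI : (P : Subgroup G).Normal := P.normal_of_subsingleton
    have := cnt_le_card_normal (P : Subgroup G) {3} (fun p hp => by
      rw [Finset.mem_singleton.1 hp]
      refine ⟨Nat.prime_three, fun hd => ?_⟩
      rw [show (P : Subgroup G).index = 4 by omega] at hd
      norm_num at hd)
    rw [hPc, Finset.sum_singleton, h, show lk tgtFour 3 = 8 from rfl] at this
    omega
  let φ := MulAction.toPermHom G (Sylow 3 G)
  have hinj : Function.Injective φ := by
    rw [← MonoidHom.ker_eq_bot_iff, Subgroup.eq_bot_iff_forall]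
    intro x hx
    have hmem : ∀ Q : Sylow 3 G, x ∈ (Q : Subgroup G) := by
      intro Q
      have hQ : x ∈ Subgroup.normalizer ((Q : Subgroup G) : Set G) := by
        refine (Sylow.stabilizer_eq_normalizer (P := Q)) ▸ ?_
        rw [MulAction.mem_stabilizer_iff]
        exact DFunLike.congr_fun hx Q
      have hN : Nat.card (Subgroup.normalizer ((Q : Subgroup G) : Set G)) = 3 := by
        have h1 := (Subgroup.normalizer ((Q : Subgroup G) : Set G)).card_mul_index
        have h2 := Q.card_eq_index_normalizer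
        rw [hn] at h2
        rw [hcard] at h1
        have h3 : (Subgroup.normalizer ((Q : Subgroup G) : Set G)).index = 4 := h2.symm
        rw [h3] at h1
        omega
      rwa [← Subgroup.eq_of_le_of_card_ge Subgroup.le_normalizer (by rw [hN, hPc])] at hQ
    obtain ⟨Q, hQ⟩ : ∃ Q : Sylow 3 G, Q ≠ P := by
      haveI : Nontrivial (Sylow 3 G) := Finite.one_lt_card_iff_nontrivial.1 (by omega)
      exact exists_ne P
    by_contra hx1
    have hz : ∀ R : Sylow 3 G, Subgroup.zpowers x = (R : Subgroup G) := fun R => by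
      refine Subgroup.eq_of_le_of_card_ge (Subgroup.zpowers_le.2 (hmem R)) ?_
      rw [Nat.card_zpowers, hPc]
      have hd := Subgroup.orderOf_mk x (hmem R) ▸ orderOf_dvd_natCard (⟨x, hmem R⟩ : (R : Subgroup G))
      rw [hPc] at hd
      rcases (Nat.dvd_prime Nat.prime_three).1 hd with e | e
      · exact absurd (orderOf_eq_one_iff.1 e) hx1
      · omega
    exact hQ (Sylow.ext ((hz Q).symm.trans (hz P)))
  haveI := Fintype.ofFinite (Sylow 3 G)
  have hS : Fintype.card (Sylow 3 G) = 4 := by rw [← Nat.card_eq_fintype_card, hn]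
  have hrange : φ.range = alternatingGroup (Sylow 3 G) := by
    apply Equiv.Perm.eq_alternatingGroup_of_index_eq_two
    have h1 := φ.range.card_mul_index
    have h2 : Nat.card φ.range = 12 := by rw [← hcard]; exact (Nat.card_congr (MonoidHom.ofInjective hinj).toEquiv).symm
    rw [h2, Nat.card_perm, hn] at h1
    simp [Nat.factorial] at h1
    omega
  obtain ⟨e⟩ : Nonempty (Sylow 3 G ≃ Fin 4) := ⟨Fintype.equivFinOfCardEq hS⟩
  exact ⟨(MonoidHom.ofInjective hinj).trans ((MulEquiv.subgroupCongr hrange).trans e.altCongrHom)⟩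

end Identify

section Alternating

theorem typeSet_eq {H : Type*} [Group H] [Finite H] {M : List ℕ} {c : ℕ → ℕ}
    (hM : ∀ g : H, ∃ m ∈ M, g ^ m = 1) (hc : ∀ m ∈ M, ∀ d ∈ m.divisors, d ∈ M)
    (hpow : ∀ m ∈ M, Nat.card {g : H // g ^ m = 1} = ∑ d ∈ m.divisors, c d)
    (hpos : ∀ m ∈ M, 0 < m ∧ 0 < c m) : typeSet H = {x | x ∈ M.map c} := by
  have hcnt : ∀ m, m ∈ M → cnt H m = c m := by
    intro m
    induction m using Nat.strong_induction_on with
    | _ m ih =>
      intro hm
      have h := hpow m hm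
      rw [card_pow_eq_one_eq_sum (hpos m hm).1, ← Nat.cons_self_properDivisors (hpos m hm).1.ne', Finset.sum_cons,
        Finset.sum_cons] at h
      have : ∑ d ∈ m.properDivisors, cnt H d = ∑ d ∈ m.properDivisors, c d :=
        Finset.sum_congr rfl fun d hd => by
          obtain ⟨h1, h2⟩ := Nat.mem_properDivisors.1 hd
          exact ih d h2 (hc m hm d (Nat.mem_divisors.2 ⟨h1, (hpos m hm).1.ne'⟩))
      omega
  ext x
  constructor
  · rintro ⟨m, ⟨g, rfl⟩, rfl⟩
    obtain ⟨k, hk, hg⟩ := hM g
    have hmem : orderOf g ∈ M :=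
      hc k hk _ (Nat.mem_divisors.2 ⟨orderOf_dvd_of_pow_eq_one hg, (hpos k hk).1.ne'⟩)
    exact List.mem_map.2 ⟨_, hmem, (hcnt _ hmem).symm⟩
  · intro hx
    obtain ⟨m, hm, rfl⟩ := List.mem_map.1 hx
    exact ⟨m, cnt_pos_iff.1 (by rw [hcnt m hm]; exact (hpos m hm).2), hcnt m hm⟩

theorem typeSet_four : typeSet (alternatingGroup (Fin 4)) = {x | x ∈ [1, 3, 8]} :=
  typeSet_eq (M := [1, 2, 3]) (c := lk tgtFour) (by decide +kernel) (by decide +kernel)
    (fun m hm => by rw [Nat.card_eq_fintype_card]; revert m; decide +kernel) (by decide +kernel)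

theorem typeSet_five : typeSet (alternatingGroup (Fin 5)) = {x | x ∈ [1, 15, 20, 24]} :=
  typeSet_eq (M := [1, 2, 3, 5]) (c := lk tgtFive) (by decide +kernel) (by decide +kernel)
    (fun m hm => by rw [Nat.card_eq_fintype_card]; revert m; decide +kernel) (by decide +kernel)

theorem typeSet_six : typeSet (alternatingGroup (Fin 6)) = {x | x ∈ [1, 45, 80, 90, 144]} :=
  typeSet_eq (M := [1, 2, 3, 4, 5]) (c := lk tgtSix) (by decide +kernel) (by decide +kernel)
    (fun m hm => by rw [Nat.card_eq_fintype_card]; revert m; decide +kernel) (by decide +kernel)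

/-- Recognition by the set of numbers of elements of equal order. -/
theorem recognition {G : Type*} [Group G] [Finite G] (n : ℕ) (hn : n = 4 ∨ n = 5 ∨ n = 6)
    (h : typeSet G = typeSet (alternatingGroup (Fin n))) : Nonempty (G ≃* alternatingGroup (Fin n)) := by
  rcases hn with rfl | rfl | rfl
  · exact iso_four (cnt_four (h.trans typeSet_four))
  · obtain ⟨hcard, hs⟩ := simple_of_five (cnt_five (h.trans typeSet_five))
    haveI := hs
    exact simple_sixty hcard
  · obtain ⟨hcard, hs⟩ := simple_of_six (cnt_six (h.trans typeSet_six))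
    haveI := hs
    haveI : IsSimpleGroup (alternatingGroup (Fin 6)) := alternatingGroup.isSimpleGroup (by simp)
    exact Cfsg.Agent.Small.Order360.iso hcard (nat_card_alternatingGroup.trans (by simp [Nat.factorial]))

end Alternating

end Cfsg.Agent.Lie.SameOrderType
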