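import Cfsg.Agent.Lib.Solv.FrobDiv
import Cfsg.Agent.Lib.Lie.SameOrderType.Data

/-!
Recovering the numbers of elements of each order from the set of these numbers, by a finite search using
Frobenius' theorem.
-/

set_option autoImplicit false
set_option linter.style.haveILetI false

namespace Cfsg.Agent.Lie.SameOrderType

/-- The number of elements of a given order. -/
noncomputable def cnt (G : Type*) [Group G] (m : ℕ) : ℕ := Nat.card {g : G // orderOf g = m}

variable {G : Type*} [Group G] [Finite G]

theorem cnt_pos_iff {m : ℕ} : 0 < cnt G m ↔ m ∈ Set.range (orderOf : G → ℕ) := by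
  rw [cnt, Nat.card_pos_iff]
  exact ⟨fun ⟨⟨g⟩, _⟩ => ⟨g.1, g.2⟩, fun ⟨g, hg⟩ => ⟨⟨g, hg⟩, inferInstance⟩⟩

theorem cnt_pos_of_dvd {m d : ℕ} (h : 0 < cnt G m) (hd : d ∣ m) : 0 < cnt G d := by
  obtain ⟨g, rfl⟩ := cnt_pos_iff.1 h
  refine cnt_pos_iff.2 ⟨g ^ (orderOf g / d), ?_⟩
  exact orderOf_pow_orderOf_div (orderOf_pos g).ne' hd

theorem cnt_one : cnt G 1 = 1 := by
  rw [cnt, Nat.card_eq_one_iff_unique]
  exact ⟨⟨fun a b => Subtype.ext ((orderOf_eq_one_iff.1 a.2).trans (orderOf_eq_one_iff.1 b.2).symm)⟩,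
    ⟨⟨1, orderOf_one⟩⟩⟩

theorem card_pow_eq_one_eq_sum {k : ℕ} (hk : 0 < k) :
    Nat.card {g : G // g ^ k = 1} = ∑ d ∈ k.divisors, cnt G d := by
  classical
  haveI := Fintype.ofFinite G
  rw [Nat.card_eq_fintype_card, Fintype.card_subtype,
    Finset.card_eq_sum_card_fiberwise (t := k.divisors) (f := orderOf)
      (fun g hg => Nat.mem_divisors.2 ⟨orderOf_dvd_of_pow_eq_one (Finset.mem_filter.1 hg).2, hk.ne'⟩)]
  refine Finset.sum_congr rfl fun d hd => ?_
  rw [cnt, Nat.card_eq_fintype_card, Fintype.card_subtype]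
  congr 1
  ext g
  simp only [Finset.mem_filter, Finset.mem_univ, true_and]
  refine ⟨fun h => h.2, fun h => ⟨?_, h⟩⟩
  rw [← orderOf_dvd_iff_pow_eq_one, h]
  exact Nat.dvd_of_mem_divisors hd

theorem dvd_sum_divisors {k : ℕ} (hk : k ∣ Nat.card G) : k ∣ ∑ d ∈ k.divisors, cnt G d := by
  rw [← card_pow_eq_one_eq_sum (Nat.pos_of_dvd_of_pos hk Nat.card_pos)]
  exact Cfsg.Agent.Solv.frobenius_dvd k hk

theorem totient_dvd_cnt (m : ℕ) (hm : 0 < cnt G m) : m.totient ∣ cnt G m := by
  classical
  haveI := Fintype.ofFinite G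
  rw [cnt, Nat.card_eq_fintype_card, Fintype.card_subtype]
  rw [Finset.card_eq_sum_card_fiberwise (t := (Finset.univ.filter fun g : G => orderOf g = m).image Subgroup.zpowers)
      (f := Subgroup.zpowers) (fun g hg => Finset.mem_image_of_mem _ hg)]
  refine Finset.dvd_sum fun H hH => dvd_of_eq ?_
  obtain ⟨g, hg, rfl⟩ := Finset.mem_image.1 hH
  rw [Finset.mem_filter] at hg
  have := Fintype.ofFinite (Subgroup.zpowers g)
  rw [← IsCyclic.card_orderOf_eq_totient (α := Subgroup.zpowers g) (d := m)
    (by rw [Fintype.card_eq_nat_card, Nat.card_zpowers, hg.2])]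
  refine Finset.card_bij (fun h _ => (h : G)) ?_ (fun a _ b _ e => Subtype.ext e) ?_
  · intro h hh
    rw [Finset.mem_filter] at hh
    refine Finset.mem_filter.2 ⟨Finset.mem_filter.2 ⟨Finset.mem_univ _, by rw [Subgroup.orderOf_coe]; exact hh.2⟩, ?_⟩
    exact Subgroup.eq_of_le_of_card_ge (Subgroup.zpowers_le.2 h.2)
      (by rw [Nat.card_zpowers, Nat.card_zpowers, Subgroup.orderOf_coe, hh.2, hg.2])
  · intro h hh
    rw [Finset.mem_filter, Finset.mem_filter] at hh
    refine ⟨⟨h, hh.2 ▸ Subgroup.mem_zpowers h⟩, Finset.mem_filter.2 ⟨Finset.mem_univ _, ?_⟩, rfl⟩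
    rw [Subgroup.orderOf_mk]
    exact hh.1.2

/-- Lookup. -/
def lk (acc : List (ℕ × ℕ)) (d : ℕ) : ℕ := ((acc.filter fun p => p.1 == d).map Prod.snd).sum

/-- The test at a leaf. -/
def leafOK (S : List ℕ) (tgt acc : List (ℕ × ℕ)) : Bool :=
  if (S.all fun s => acc.any fun p => p.2 == s) &&
      (acc.all fun p => (acc.map Prod.snd).sum % p.1 == 0) &&
      ((List.range 107).all fun i => (acc.map Prod.snd).sum % (i + 2) != 0 ||
        ((acc.filter fun p => (i + 2) % p.1 == 0).map Prod.snd).sum % (i + 2) == 0) then acc == tgt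
  else true

/-- The search. -/
def dfs (S : List ℕ) (tgt : List (ℕ × ℕ)) : ℕ → List (ℕ × List ℕ × List ℕ) → List (ℕ × ℕ) → Bool
  | _, [], acc => leafOK S tgt acc
  | 0, _ :: _, _ => false
  | n + 1, e :: rest, acc =>
    dfs S tgt n (rest.filter fun x => x.1 % e.1 != 0) acc &&
      (if (e.2.1.all fun d => acc.any fun p => p.1 == d) then
        e.2.2.all fun v => ((e.2.1.map (lk acc)).sum + v) % e.1 != 0 || dfs S tgt n rest ((e.1, v) :: acc)
      else true)

/-- The facts about a branch consistent with a group. -/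
structure Inv (G : Type*) [Group G] (L : List (ℕ × List ℕ × List ℕ)) (acc : List (ℕ × ℕ)) : Prop where
  val : ∀ p ∈ acc, p.2 = cnt G p.1 ∧ 0 < p.2
  nodup : (acc.map Prod.fst).Nodup
  cover : ∀ m, 0 < cnt G m → m ∈ acc.map Prod.fst ∨ m ∈ L.map Prod.fst
  sorted : L.Pairwise fun x y => x.1 < y.1
  fresh : ∀ x ∈ L, x.1 ∉ acc.map Prod.fst
  entry : ∀ x ∈ L, 0 < x.1 ∧ x.2.1.toFinset = x.1.properDivisors ∧ x.2.1.Nodup ∧
    (0 < cnt G x.1 → cnt G x.1 ∈ x.2.2)

theorem lk_eq {L : List (ℕ × List ℕ × List ℕ)} {acc : List (ℕ × ℕ)} (h : Inv G L acc) {d : ℕ}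
    (hd : d ∈ acc.map Prod.fst) : lk acc d = cnt G d := by
  have : ∀ a : List (ℕ × ℕ), (∀ p ∈ a, p.2 = cnt G p.1) → (a.map Prod.fst).Nodup →
      lk a d = if d ∈ a.map Prod.fst then cnt G d else 0 := by
    intro a
    induction a with
    | nil => intro _ _; simp [lk]
    | cons p a ih =>
      intro hv hn
      rw [List.map_cons, List.nodup_cons] at hn
      have ih' := ih (fun q hq => hv q (List.mem_cons_of_mem _ hq)) hn.2
      simp only [lk] at ih' ⊢
      by_cases hp : p.1 = d
      · rw [List.filter_cons_of_pos (by simpa using hp), List.map_cons, List.sum_cons, ih',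
          if_neg (hp ▸ hn.1), hv p List.mem_cons_self, hp, add_zero]
        simp [hp]
      · rw [List.filter_cons_of_neg (by simpa using hp), ih']
        simp only [List.map_cons, List.mem_cons, Ne.symm hp, false_or]
  rw [this acc (fun p hp => (h.val p hp).1) h.nodup, if_pos hd]

theorem sum_vals {L : List (ℕ × List ℕ × List ℕ)} {acc : List (ℕ × ℕ)} (h : Inv G L acc) (q : ℕ → Bool) :
    ((acc.filter fun p => q p.1).map Prod.snd).sum =
      ∑ d ∈ (acc.map Prod.fst).toFinset.filter (fun d => q d = true), cnt G d := by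
  classical
  have e1 : (acc.filter fun p => q p.1).map Prod.snd = ((acc.map Prod.fst).filter q).map (cnt G) := by
    rw [List.filter_map, List.map_map]
    exact List.map_congr_left fun p hp => (h.val p (List.mem_filter.1 hp).1).1
  rw [e1, ← List.sum_toFinset _ (h.nodup.filter q), List.toFinset_filter]

theorem leaf_sound {S : List ℕ} {tgt acc : List (ℕ × ℕ)} (h : Inv G [] acc)
    (hS : ∀ s ∈ S, ∃ m, 0 < cnt G m ∧ cnt G m = s) (hl : leafOK S tgt acc = true) : acc = tgt := by
  classical
  haveI := Fintype.ofFinite G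
  have hkeys : ∀ m, 0 < cnt G m ↔ m ∈ acc.map Prod.fst := fun m =>
    ⟨fun hm => (h.cover m hm).resolve_right (by simp), fun hm => by
      obtain ⟨p, hp, rfl⟩ := List.mem_map.1 hm
      exact (h.val p hp).1 ▸ (h.val p hp).2⟩
  have himg : (acc.map Prod.fst).toFinset = (Finset.univ : Finset G).image orderOf := by
    ext m
    rw [List.mem_toFinset, ← hkeys, cnt_pos_iff]
    simp
  have htot : (acc.map Prod.snd).sum = Nat.card G := by
    have e := sum_vals h (fun _ => true)
    rw [List.filter_eq_self.2 (fun _ _ => rfl), Finset.filter_true_of_mem (fun _ _ => rfl)] at e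
    rw [e, himg, Nat.card_eq_fintype_card, ← Finset.card_univ, Finset.card_eq_sum_card_image orderOf]
    exact Finset.sum_congr rfl fun d _ => by rw [cnt, Nat.card_eq_fintype_card, Fintype.card_subtype]
  have cond : ((S.all fun s => acc.any fun p => p.2 == s) &&
      (acc.all fun p => (acc.map Prod.snd).sum % p.1 == 0) &&
      ((List.range 107).all fun i => (acc.map Prod.snd).sum % (i + 2) != 0 ||
        ((acc.filter fun p => (i + 2) % p.1 == 0).map Prod.snd).sum % (i + 2) == 0)) = true := by
    simp only [Bool.and_eq_true, List.all_eq_true, List.any_eq_true, beq_iff_eq, Bool.or_eq_true, bne_iff_ne,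
      List.mem_range]
    refine ⟨⟨fun s hs => ?_, fun p hp => ?_⟩, fun i _ => ?_⟩
    · obtain ⟨m, hm, rfl⟩ := hS s hs
      obtain ⟨p, hp, rfl⟩ := List.mem_map.1 ((hkeys m).1 hm)
      exact ⟨p, hp, (h.val p hp).1⟩
    · obtain ⟨g, hg⟩ := cnt_pos_iff.1 ((hkeys p.1).2 (List.mem_map.2 ⟨p, hp, rfl⟩))
      rw [htot, ← hg]
      exact Nat.mod_eq_zero_of_dvd (orderOf_dvd_natCard g)
    · by_cases hk : (acc.map Prod.snd).sum % (i + 2) = 0
      · refine Or.inr (Nat.mod_eq_zero_of_dvd ?_)
        have hd := dvd_sum_divisors (G := G) (k := i + 2) (htot ▸ Nat.dvd_of_mod_eq_zero hk)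
        rw [sum_vals h (fun d => (i + 2) % d == 0)]
        refine hd.trans (dvd_of_eq (Finset.sum_subset (fun d hd => ?_) (fun d hd hd' => ?_)).symm)
        · simp only [Finset.mem_filter, beq_iff_eq] at hd
          exact Nat.mem_divisors.2 ⟨Nat.dvd_of_mod_eq_zero hd.2, by omega⟩
        · by_contra hne
          refine hd' (Finset.mem_filter.2 ⟨List.mem_toFinset.2 ((hkeys d).1 (Nat.pos_of_ne_zero hne)), ?_⟩)
          simp [Nat.mod_eq_zero_of_dvd (Nat.dvd_of_mem_divisors hd)]
      · exact Or.inl hk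
  simpa [leafOK, cond] using hl

/-- The search is sound. -/
theorem dfs_sound {S : List ℕ} {tgt : List (ℕ × ℕ)} (hS : ∀ s ∈ S, ∃ m, 0 < cnt G m ∧ cnt G m = s) :
    ∀ (n : ℕ) (L : List (ℕ × List ℕ × List ℕ)) (acc : List (ℕ × ℕ)), Inv G L acc → dfs S tgt n L acc = true →
      ∀ m, cnt G m = lk tgt m := by
  intro n
  induction n with
  | zero =>
    rintro (_ | ⟨e, rest⟩) acc h hd
    · simp only [dfs] at hd
      have := leaf_sound h hS hd
      subst this
      intro m
      by_cases hm : m ∈ acc.map Prod.fst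
      · rw [lk_eq h hm]
      · have h0 : cnt G m = 0 := by
          by_contra hne
          exact hm ((h.cover m (Nat.pos_of_ne_zero hne)).resolve_right (by simp))
        rw [h0, lk, List.filter_eq_nil_iff.2]
        · rfl
        · intro p hp hpm
          exact hm (List.mem_map.2 ⟨p, hp, by simpa using hpm⟩)
    · simp [dfs] at hd
  | succ n ih =>
    rintro (_ | ⟨e, rest⟩) acc h hd
    · simp only [dfs] at hd
      have := leaf_sound h hS hd
      subst this
      intro m
      by_cases hm : m ∈ acc.map Prod.fst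
      · rw [lk_eq h hm]
      · have h0 : cnt G m = 0 := by
          by_contra hne
          exact hm ((h.cover m (Nat.pos_of_ne_zero hne)).resolve_right (by simp))
        rw [h0, lk, List.filter_eq_nil_iff.2]
        · rfl
        · intro p hp hpm
          exact hm (List.mem_map.2 ⟨p, hp, by simpa using hpm⟩)
    · simp only [dfs, Bool.and_eq_true] at hd
      have hs := List.pairwise_cons.1 h.sorted
      obtain ⟨hpos, hprop, hnd, hopt⟩ := h.entry e List.mem_cons_self
      by_cases he : cnt G e.1 = 0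
      · refine ih _ acc ?_ hd.1
        refine ⟨h.val, h.nodup, fun m hm => ?_, hs.2.filter _,
          fun x hx => h.fresh x (List.mem_cons_of_mem _ (List.mem_filter.1 hx).1),
          fun x hx => h.entry x (List.mem_cons_of_mem _ (List.mem_filter.1 hx).1)⟩
        refine (h.cover m hm).imp id fun hmem => ?_
        rw [List.map_cons, List.mem_cons] at hmem
        rcases hmem with rfl | hmem
        · omega
        obtain ⟨x, hx, rfl⟩ := List.mem_map.1 hmem
        refine List.mem_map.2 ⟨x, List.mem_filter.2 ⟨hx, ?_⟩, rfl⟩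
        simp only [bne_iff_ne]
        intro hmod
        have := cnt_pos_of_dvd hm (Nat.dvd_of_mod_eq_zero hmod)
        omega
      · have hep : 0 < cnt G e.1 := Nat.pos_of_ne_zero he
        have hds : ∀ d ∈ e.2.1, d ∈ acc.map Prod.fst := by
          intro d hd'
          have hdp := Nat.mem_properDivisors.1 (hprop ▸ List.mem_toFinset.2 hd')
          refine (h.cover d (cnt_pos_of_dvd hep hdp.1)).resolve_right fun hmem => ?_
          obtain ⟨x, hx, hxd⟩ := List.mem_map.1 hmem
          rcases List.mem_cons.1 hx with rfl | hx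
          · omega
          · have := hs.1 x hx; omega
        have hall : (e.2.1.all fun d => acc.any fun p => p.1 == d) = true := by
          simp only [List.all_eq_true, List.any_eq_true, beq_iff_eq]
          intro d hd'
          obtain ⟨p, hp, hpd⟩ := List.mem_map.1 (hds d hd')
          exact ⟨p, hp, hpd⟩
        have h2 := hd.2
        rw [if_pos hall, List.all_eq_true] at h2
        have h3 := h2 _ (hopt hep)
        simp only [Bool.or_eq_true, bne_iff_ne] at h3
        refine ih rest ((e.1, cnt G e.1) :: acc) ?_ (h3.resolve_left (not_not.2 ?_))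
        · refine ⟨fun p hp => ?_, ?_, fun m hm => ?_, hs.2, fun x hx => ?_,
            fun x hx => h.entry x (List.mem_cons_of_mem _ hx)⟩
          · rcases List.mem_cons.1 hp with rfl | hp
            exacts [⟨rfl, hep⟩, h.val p hp]
          · rw [List.map_cons, List.nodup_cons]
            exact ⟨h.fresh e List.mem_cons_self, h.nodup⟩
          · have := h.cover m hm
            simp only [List.map_cons, List.mem_cons] at this ⊢
            tauto
          · rw [List.map_cons, List.mem_cons]
            rintro (hxe | hxe)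
            · have := hs.1 x hx; simp only at hxe; omega
            · exact h.fresh x (List.mem_cons_of_mem _ hx) hxe
        · refine Nat.mod_eq_zero_of_dvd ?_
          obtain ⟨g, hg⟩ := cnt_pos_iff.1 hep
          have hk : e.1 ∣ Nat.card G := hg ▸ orderOf_dvd_natCard g
          have := dvd_sum_divisors (G := G) hk
          rw [← Nat.cons_self_properDivisors hpos.ne', Finset.sum_cons, add_comm] at this
          rw [List.map_congr_left fun d hd' => lk_eq h (hds d hd'), ← List.sum_toFinset _ hnd, hprop]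
          exact this

end Cfsg.Agent.Lie.SameOrderType
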